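import Mathlib

set_option autoImplicit false

namespace Cfsg.Agent.Lib.DLS
open Module Function

universe u v w

/-- L4 -/
theorem base_GL {F : Type u} [Field F] [Fintype F] (p : ℕ) [Fact p.Prime]
    (hpq : ¬ p ∣ Fintype.card F) :
    0 < orderOf ((Fintype.card F : ℕ) : ZMod p) ∧
    ∃ x : Matrix.GeneralLinearGroup (Fin (orderOf ((Fintype.card F : ℕ) : ZMod p))) F,
      orderOf x = p := by
  have hq0 : ((Fintype.card F : ℕ) : ZMod p) ≠ 0 := by
    rwa [Ne, ZMod.natCast_eq_zero_iff]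
  have hpos : 0 < orderOf ((Fintype.card F : ℕ) : ZMod p) := by
    rw [orderOf_pos_iff, isOfFinOrder_iff_pow_eq_one]
    exact ⟨p - 1, Nat.sub_pos_of_lt (Fact.out : p.Prime).one_lt, ZMod.pow_card_sub_one_eq_one hq0⟩
  refine ⟨hpos, ?_⟩
  obtain ⟨e, he⟩ : ∃ e, e = orderOf ((Fintype.card F : ℕ) : ZMod p) := ⟨_, rfl⟩
  rw [← he] at hpos ⊢
  apply exists_prime_orderOf_dvd_card' p
  rw [Matrix.card_GL_field]
  have h1 : p ∣ Fintype.card F ^ e - Fintype.card F ^ ((⟨0, hpos⟩ : Fin e) : ℕ) := by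
    rw [← ZMod.natCast_eq_zero_iff, pow_zero, Nat.cast_sub (Nat.one_le_pow _ _ Fintype.card_pos),
      Nat.cast_pow, he, pow_orderOf_eq_one, Nat.cast_one, sub_self]
  exact h1.trans (Finset.dvd_prod_of_mem _ (Finset.mem_univ (⟨0, hpos⟩ : Fin e)))

end Cfsg.Agent.Lib.DLS
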