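import Mathlib
import Cfsg.Agent.Lib.Helper36.DLS.L2

set_option autoImplicit false

namespace Cfsg.Agent.Lib.DLS
open Module Function

universe u v w

theorem s1_reindex_J {α Q : Type v} [Fintype Q] [DecidableEq Q] [Fintype α] [DecidableEq α]
    {F : Type w} [Field F] :
    Matrix.reindex (Equiv.sumProdDistrib α α Q) (Equiv.sumProdDistrib α α Q)
      (Matrix.blockDiagonal (fun _ : Q => Matrix.J α F)) = Matrix.J (α × Q) F := by
  ext i j
  rcases i with ⟨a, x⟩ | ⟨a, x⟩ <;> rcases j with ⟨b, y⟩ | ⟨b, y⟩ <;>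
    simp [Matrix.J, Matrix.blockDiagonal_apply, Matrix.one_apply, Prod.ext_iff] <;>
    split_ifs <;> simp_all

/-- S1 -/
theorem sp_wreath {D : Type u} [Group D] {Q : Type v} [Group Q] [Fintype Q] [DecidableEq Q]
    {α : Type v} [Fintype α] [DecidableEq α] [Nonempty α] {F : Type w} [Field F]
    (ρ : D →* Matrix.symplecticGroup α F) (hρ : Injective ρ) :
    ∃ ρ' : (D ≀ᵣ Q) →* Matrix.symplecticGroup (α × Q) F, Injective ρ' := by
  obtain ⟨M, hM, hJ⟩ := wreath_step (Q := Q) (Matrix.J α F)
    ((Matrix.symplecticGroup α F).subtype.comp ρ) (Subtype.val_injective.comp hρ)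
    (fun d => SymplecticGroup.mem_iff.mp (ρ d).2)
  let E := Matrix.reindexAlgEquiv F F (Equiv.sumProdDistrib α α Q)
  have hmem : ∀ x, E (M x) ∈ Matrix.symplecticGroup (α × Q) F := by
    intro x
    rw [SymplecticGroup.mem_iff, ← s1_reindex_J]
    have h1 : (E (M x)).transpose = E (M x).transpose := rfl
    have h2 : Matrix.reindex (Equiv.sumProdDistrib α α Q) (Equiv.sumProdDistrib α α Q)
      (Matrix.blockDiagonal (fun _ : Q => Matrix.J α F)) =
        E (Matrix.blockDiagonal (fun _ : Q => Matrix.J α F)) := rfl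
    rw [h1, h2, ← map_mul, ← map_mul, hJ]
  refine ⟨{ toFun := fun x => ⟨E (M x), hmem x⟩
            map_one' := by apply Subtype.ext; simp
            map_mul' := fun x y => by apply Subtype.ext; simp }, ?_⟩
  intro x y hxy
  have := congrArg Subtype.val hxy
  exact hM (E.injective this)

end Cfsg.Agent.Lib.DLS
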