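import Mathlib

set_option autoImplicit false

namespace Cfsg.Agent.Lib.DLS
open Module Function

universe u v w

/-- U2 -/
theorem frob_bound {F : Type u} [Field F] [Fintype F] (K : Type v) [Field K] [Algebra F K]
    (p : ℕ) [Fact p.Prime] (n : ℕ) (A : Matrix (Fin n) (Fin n) F)
    (ζ : K) (hζ1 : ζ ≠ 1) (k : ℕ) (hζ : ζ ^ p ^ k = 1) (U : Submodule K (Fin n → K))
    (hU : ∀ y ∈ U, (A.map (algebraMap F K)).mulVec y = ζ • y) :
    orderOf ((Fintype.card F : ℕ) : ZMod p) * finrank K U ≤ n := by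
  classical
  obtain ⟨q, hq⟩ : ∃ q, q = Fintype.card F := ⟨_, rfl⟩
  rw [← hq]
  obtain ⟨χ, hχ⟩ : ∃ χ, χ = (A.map (algebraMap F K)).charpoly := ⟨_, rfl⟩
  -- Step 1
  have h1 : finrank K U ≤ χ.rootMultiplicity ζ := by
    obtain ⟨f, hf⟩ : ∃ f : Module.End K (Fin n → K), f = Matrix.toLin' (A.map (algebraMap F K)) :=
      ⟨_, rfl⟩
    have hle : U ≤ Module.End.eigenspace f ζ := by
      intro y hy
      rw [Module.End.mem_eigenspace_iff, hf, Matrix.toLin'_apply]
      exact hU y hy
    have hfχ : f.charpoly = χ := by rw [hf, hχ, Matrix.charpoly_toLin']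
    refine (Submodule.finrank_mono hle).trans ?_
    rw [← hfχ]
    exact LinearMap.finrank_eigenspace_le f ζ
  -- Step 2
  have h2 : ∀ a : K, χ.rootMultiplicity (a ^ q) = χ.rootMultiplicity a := by
    intro a
    have hmap : χ.map (FiniteField.frobeniusAlgHom F K : K →+* K) = χ := by
      rw [hχ, Matrix.charpoly_map, Polynomial.map_map]
      congr 1
      exact (FiniteField.frobeniusAlgHom F K).comp_algebraMap
    have := Polynomial.eq_rootMultiplicity_map (p := χ)
      (f := (FiniteField.frobeniusAlgHom F K : K →+* K)) (RingHom.injective _) a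
    rw [hmap] at this
    rw [this, hq]
    rfl
  have h2' : ∀ i : ℕ, χ.rootMultiplicity (ζ ^ q ^ i) = χ.rootMultiplicity ζ := by
    intro i
    induction i with
    | zero => rw [pow_zero, pow_one]
    | succ i ih => rw [pow_succ, pow_mul, h2, ih]
  -- Step 3
  have hp : p ∣ orderOf ζ := by
    obtain ⟨a, -, ha⟩ := (Nat.dvd_prime_pow (Fact.out : p.Prime)).mp (orderOf_dvd_of_pow_eq_one hζ)
    rcases Nat.eq_zero_or_pos a with rfl | hapos
    · rw [pow_zero, orderOf_eq_one_iff] at ha
      exact absurd ha hζ1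
    · rw [ha]
      exact dvd_pow_self p hapos.ne'
  have h3 : Set.InjOn (fun i : ℕ => ζ ^ q ^ i) (Finset.range (orderOf ((q : ℕ) : ZMod p))) := by
    intro i hi j hj hij
    have hζ0 : ζ ≠ 0 := by
      rintro rfl
      rw [zero_pow (pow_ne_zero _ (Fact.out : p.Prime).ne_zero)] at hζ
      exact zero_ne_one hζ
    have hij' : (Units.mk0 ζ hζ0) ^ q ^ i = (Units.mk0 ζ hζ0) ^ q ^ j := by
      apply Units.ext
      rw [Units.val_pow_eq_pow_val, Units.val_pow_eq_pow_val]
      exact hij
    have hmod : q ^ i ≡ q ^ j [MOD orderOf ζ] := by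
      have := pow_eq_pow_iff_modEq.mp hij'
      rwa [← orderOf_units, Units.val_mk0] at this
    have hmodp : q ^ i ≡ q ^ j [MOD p] := hmod.of_dvd hp
    have hz : ((q : ℕ) : ZMod p) ^ i = ((q : ℕ) : ZMod p) ^ j := by
      have := (ZMod.natCast_eq_natCast_iff _ _ _).mpr hmodp
      simpa using this
    rw [Finset.coe_range] at hi hj
    exact pow_injOn_Iio_orderOf hi hj hz
  -- Step 4
  calc orderOf ((q : ℕ) : ZMod p) * finrank K U
      ≤ orderOf ((q : ℕ) : ZMod p) * χ.rootMultiplicity ζ := Nat.mul_le_mul_left _ h1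
    _ = ∑ i ∈ Finset.range (orderOf ((q : ℕ) : ZMod p)), χ.rootMultiplicity (ζ ^ q ^ i) := by
        rw [Finset.sum_congr rfl fun i _ => h2' i, Finset.sum_const, Finset.card_range, smul_eq_mul]
    _ = ∑ a ∈ (Finset.range (orderOf ((q : ℕ) : ZMod p))).image (fun i : ℕ => ζ ^ q ^ i),
          χ.roots.count a := by
        rw [Finset.sum_image h3]
        exact Finset.sum_congr rfl fun i _ => (Polynomial.count_roots _).symm
    _ ≤ ∑ a ∈ χ.roots.toFinset, χ.roots.count a := by
        apply Finset.sum_le_sum_of_ne_zero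
        intro a _ ha
        rw [Multiset.mem_toFinset]
        exact Multiset.count_ne_zero.mp ha
    _ = Multiset.card χ.roots := Multiset.toFinset_sum_count_eq _
    _ ≤ χ.natDegree := Polynomial.card_roots' _
    _ = n := by rw [hχ, Matrix.charpoly_natDegree_eq_dim, Fintype.card_fin]

end Cfsg.Agent.Lib.DLS
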